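import Cfsg.Agent.Lib.Schur.MTwoTwo.CoverData
import Cfsg.Agent.Lib.SmallGroups.M24Group

/-!
Kernel checks on the model of `M₂₂` and on its two covers.
-/

set_option autoImplicit false
set_option maxRecDepth 100000
set_option maxHeartbeats 0
set_option Elab.async false

namespace CfsgLib.Schur.MTwoTwo

open CfsgLib.Sporadic.OutCert CfsgLib.SmallGroups.Golay CfsgLib.SmallGroups.GolayOctads
open CfsgLib.SmallGroups

/-- The function of a generator on the points of the code. -/
noncomputable def gfun (m : ℕ) (p : Cfsg.GolayPt) : Cfsg.GolayPt := pt (lk 5 (baseK.getD m 0) (idx p))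

/-- The inverse function. -/
noncomputable def ginv (m : ℕ) (p : Cfsg.GolayPt) : Cfsg.GolayPt := pt (lk 5 (baseI.getD m 0) (idx p))

theorem gfun_inv : ∀ m < 2, ∀ p, ginv m (gfun m p) = p ∧ gfun m (ginv m p) = p := by decide +kernel

theorem gfun_code : ∀ m < 2, ∀ i < 12, isCW (mask fun p => word (bas i) (gfun m p)) = true := by
  decide +kernel

theorem gfun_fix : ∀ m < 2, gfun m none = none ∧ gfun m (some 0) = some 0 ∧
    ∀ p, idx (gfun m p) = lk 5 (baseK.getD m 0) (idx p) := by decide +kernel

theorem chain_ok : PermChain.check 24 chainL = true ∧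
    (chainL.map fun l => l.orb.length).prod = 443520 := by decide +kernel

/-- The image of a point under a word. -/
noncomputable def wordImg (w : List ℕ) (i : ℕ) : ℕ :=
  List.rec (motive := fun _ => ℕ) i (fun m _ ih => lk 5 (baseK.getD m 0) ih) w

theorem chain_words : chainW.length = lev0.gens.length ∧ ((List.range chainW.length).all fun j =>
    ((chainW.getD j []).all fun m => Nat.blt m 2) &&
      allF (fun i => Nat.beq (wordImg (chainW.getD j []) i)
        (PermChain.get (lev0.gens.getD j (0, 0)).1 i)) 24) = true := by decide +kernel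

theorem cov3_ok : covThree.shapeK = true ∧ covThree.treeK = true ∧ covThree.memK 0 = true ∧
    covThree.memK 1 = true ∧ covThree.goodK 0 = true ∧ covThree.goodK 1 = true := by decide +kernel

theorem cov4_shape : covFour.shapeK = true ∧ covFour.treeK = true := by decide +kernel

theorem cov4_mem : covFour.memK 0 = true ∧ covFour.memK 1 = true := by decide +kernel

theorem cov4_good : covFour.goodK 0 = true ∧ covFour.goodK 1 = true := by decide +kernel

theorem zW_ok : (zW.all fun m => Nat.blt m 2) = true ∧ allF (fun i => Nat.beq (wordImg zW i) i) 24 = true ∧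
    covThree.relK zW 2 = true ∧ covFour.relK zW 1 = true := by decide +kernel

theorem rel_ok : covThree.relK (List.replicate 11 0) 0 = true ∧
    covFour.relK (List.replicate 11 0) 0 = true ∧
    covThree.relK (List.replicate 5 1) 0 = true ∧ covFour.relK (List.replicate 5 1) 0 = true ∧
    allF (fun i => Nat.beq (wordImg (List.replicate 11 0) i) i) 24 = true ∧
    allF (fun i => Nat.beq (wordImg (List.replicate 5 1) i) i) 24 = true := by decide +kernel

end CfsgLib.Schur.MTwoTwo
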