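import Cfsg.Agent.Lib.Schur.TailsCert

/-!
Machine generated data for the 3-part of the multiplier of `M₂₂`.
-/

set_option autoImplicit false
set_option maxRecDepth 100000
set_option maxHeartbeats 0

namespace CfsgLib.Schur.MTwoTwo

/-- A table of elements built from the two generators. -/
def slpTab3 : List ℕ := [
    0xb916385ab154d25a35127b8ec104c0,
    0xbd68d9958e819487d8471ad3289020,
    0xbd90b0c9d1542ac1984d3bd33a1480,
    0xbda239b0a252607a190e93ea45b420,
    0xbd68d9958e819487d8471ad3289020,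
    0xb9d524160db187161134acdc20bd60,
    0xb916385ab154d25a35127b8ec104c0]

/-- The words building them. -/
def slpW3 : List (List ℕ) := [
    [1, 0, 0, 0, 1, 0, 0, 1, 1, 1, 1, 0, 1, 0, 1, 1, 0],
    [1, 1, 1, 1, 0, 0, 0, 1, 0, 1, 1, 0, 0, 1, 0, 0, 1, 0, 0, 0],
    [1],
    [1, 1, 0, 0],
    [0]]

/-- The places of the generators of the subgroup. -/
def ids3 : List ℕ := [2, 3]

/-- Those generators. -/
def kk3 : List ℕ := [
    0xbd90b0c9d1542ac1984d3bd33a1480,
    0xbda239b0a252607a190e93ea45b420]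

/-- The places of the fusing elements. -/
def gids3 : List ℕ := []

/-- The fusing elements. -/
def gk3 : List ℕ := [
    ]

/-- The places of the elements of prime order. -/
def ordIds : List ℕ := [4, 5, 6]

/-- Elements of order 5, 7 and 11. -/
def ordK : List ℕ := [0xbd68d9958e819487d8471ad3289020, 0xb9d524160db187161134acdc20bd60, 0xb916385ab154d25a35127b8ec104c0]

/-- Points telling the elements apart. -/
def pts3 : List ℕ := [2]

/-- Words for all elements. -/
def words3 : List (List ℕ) := [
    [],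
    [0],
    [0, 0, 1],
    [0, 0],
    [1],
    [0, 0, 1, 1],
    [1, 1],
    [0, 1, 1],
    [0, 1]]

/-- Words for the inner elements. -/
def inner3 : List (List ℕ) := [
    []]

/-- An equation. -/
def eq3_0 : CfsgLib.Schur.Tails.Form := [(-1, 0), (1, 0)]

/-- An equation. -/
def eq3_1 : CfsgLib.Schur.Tails.Form := [(-1, 0), (1, 2), (1, 2), (1, 2), (1, 0)]

/-- An equation. -/
def eq3_2 : CfsgLib.Schur.Tails.Form := [(-1, 2), (1, 1), (-1, 2), (-1, 2), (-1, 1)]

/-- An equation. -/
def eq3_3 : CfsgLib.Schur.Tails.Form := [(-1, 1), (1, 1)]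

/-- A combination. -/
def tgt3_0 : ℕ × ℤ × List (ℤ × ℕ) := (2, 1, [])

/-- The certificate. -/
def cert3 : CfsgLib.Schur.Tails.Cert :=
  { r := 2, a := 2, p := 3, fuel := 6, width := 1,
    rules := [([0, 0, 0], []), ([1, 1, 1], []), ([1, 0], [0, 1])],
    ix := [[0, 0], [2, 1]],
    ovl := [([0], 0, []), ([1], 0, []), ([1, 1], 2, []), ([1], 1, [])],
    fus := [],
    eqs := [eq3_0, eq3_1, eq3_2, eq3_3],
    lam := [[], []],
    gen := [(1, 2)], b := 3, m := 1,
    genC := [(1, 1)],
    targets := [tgt3_0] }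

end CfsgLib.Schur.MTwoTwo
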