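import Cfsg.Agent.Lib.Schur.MTwoTwo.Model
import Cfsg.Agent.Lib.Schur.Basic

/-!
The cover of `M₂₂` with cyclic kernel of order twelve, inside two monomial covers.
-/

set_option autoImplicit false
set_option maxRecDepth 20000

namespace CfsgLib.Schur.MTwoTwo

open CfsgLib.Sporadic.OutCert CfsgLib.Schur.MonoCover Subgroup

attribute [local irreducible] lk baseK zW Cert.evalK Cert.shapeK Cert.treeK Cert.memK Cert.goodK Cert.relK

/-- The sheets of the triple cover. -/
abbrev S3 : Type := Fin 231 × ZMod 3

/-- The sheets of the fourfold cover. -/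
abbrev S4 : Type := Fin 1232 × ZMod 4

/-- Permutations of points and both kinds of sheets. -/
abbrev Big : Type := Equiv.Perm (Fin 24) × Equiv.Perm S3 × Equiv.Perm S4

instance : NeZero covThree.q := ⟨by decide⟩

instance : NeZero covFour.q := ⟨by decide⟩

theorem lift3_exists (m : Fin 2) : ∃ r : Equiv.Perm (Fin covThree.N),
    (∀ i : Fin covThree.N, covThree.imN m i = (r i : ℕ)) ∧
      ((psi (gen m) : Equiv.Perm (Fin covThree.d)), covThree.liftP r (covThree.shF m)) ∈ covThree.movers := by
  obtain ⟨hs, -, m0, m1, g0, g1⟩ := cov3_ok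
  fin_cases m
  · exact covThree.exists_lift hs (by decide) m0 g0 (gen_rep 0)
  · exact covThree.exists_lift hs (by decide) m1 g1 (gen_rep 1)

theorem lift4_exists (m : Fin 2) : ∃ r : Equiv.Perm (Fin covFour.N),
    (∀ i : Fin covFour.N, covFour.imN m i = (r i : ℕ)) ∧
      ((psi (gen m) : Equiv.Perm (Fin covFour.d)), covFour.liftP r (covFour.shF m)) ∈ covFour.movers := by
  obtain ⟨hs, -⟩ := cov4_shape
  fin_cases m
  · exact covFour.exists_lift hs (by decide) cov4_mem.1 cov4_good.1 (gen_rep 0)
  · exact covFour.exists_lift hs (by decide) cov4_mem.2 cov4_good.2 (gen_rep 1)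

/-- A lifted generator of the triple cover. -/
noncomputable def lift3 (m : Fin 2) : Equiv.Perm (Fin covThree.d) × Equiv.Perm covThree.Sheet :=
  (psi (gen m), covThree.liftP (lift3_exists m).choose (covThree.shF m))

/-- A lifted generator of the fourfold cover. -/
noncomputable def lift4 (m : Fin 2) : Equiv.Perm (Fin covFour.d) × Equiv.Perm covFour.Sheet :=
  (psi (gen m), covFour.liftP (lift4_exists m).choose (covFour.shF m))

/-- The lifted generators. -/
noncomputable def lgen (m : Fin 2) : Big := (psi (gen m), (lift3 m).2, (lift4 m).2)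

/-- The projection to the triple cover. -/
def pr3 : Big →* Equiv.Perm (Fin covThree.d) × Equiv.Perm covThree.Sheet :=
  (MonoidHom.fst _ _).prod ((MonoidHom.fst _ _).comp (MonoidHom.snd _ _))

/-- The projection to the fourfold cover. -/
def pr4 : Big →* Equiv.Perm (Fin covFour.d) × Equiv.Perm covFour.Sheet :=
  (MonoidHom.fst _ _).prod ((MonoidHom.snd _ _).comp (MonoidHom.snd _ _))

/-- The cover. -/
noncomputable abbrev Gam : Subgroup Big := Subgroup.closure (Set.range lgen)

theorem gam_le : Gam ≤ covThree.movers.comap pr3 ⊓ covFour.movers.comap pr4 :=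
  (Subgroup.closure_le _).2 (by
    rintro _ ⟨m, rfl⟩
    exact ⟨(lift3_exists m).choose_spec.2, (lift4_exists m).choose_spec.2⟩)

theorem fst_mem (π : Gam) : (π : Big).1 ∈ psi.range := by
  have : Gam ≤ psi.range.comap (MonoidHom.fst _ _) :=
    (Subgroup.closure_le _).2 (by rintro _ ⟨m, rfl⟩; exact ⟨gen m, rfl⟩)
  exact this π.2

/-- The projection. -/
noncomputable def sigma : Gam →* G :=
  (MonoidHom.ofInjective psi_injective).symm.toMonoidHom.comp
    (((MonoidHom.fst _ _).comp Gam.subtype).codRestrict psi.range fst_mem)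

theorem psi_sigma (π : Gam) : psi (sigma π) = (π : Big).1 := by
  have h := (MonoidHom.ofInjective psi_injective).apply_symm_apply
    (((MonoidHom.fst _ _).comp Gam.subtype).codRestrict psi.range fst_mem π)
  exact congrArg Subtype.val h

/-- A lifted generator in the cover. -/
noncomputable def gG (m : Fin 2) : Gam := ⟨lgen m, Subgroup.subset_closure ⟨m, rfl⟩⟩

theorem sigma_gen (m : Fin 2) : sigma (gG m) = gen m := psi_injective (psi_sigma _)

theorem gG_closure : Subgroup.closure (Set.range gG) = ⊤ := by
  apply Subgroup.map_injective Gam.subtype_injective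
  rw [MonoidHom.map_closure, ← Set.range_comp, ← MonoidHom.range_eq_map, Subgroup.range_subtype]
  rfl

theorem sigma_surjective : Function.Surjective sigma := by
  rw [← MonoidHom.range_eq_top, MonoidHom.range_eq_map, ← gG_closure, MonoidHom.map_closure,
    ← Set.range_comp]
  exact (congrArg Subgroup.closure (congrArg Set.range (funext sigma_gen))).trans gen_closure

/-- The shifts of both kinds of sheets. -/
def both (a : ZMod covThree.q) (b : ZMod covFour.q) : Big := (1, covThree.shift a, covFour.shift b)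

theorem ker_eq {π : Gam} (h : π ∈ sigma.ker) : ∃ a b, (π : Big) = both a b := by
  have h1 : (π : Big).1 = 1 := by rw [← psi_sigma, MonoidHom.mem_ker.1 h, map_one]
  obtain ⟨h3, h4⟩ := gam_le π.2
  obtain ⟨a, ha⟩ := covThree.exists_shift cov3_ok.1 cov3_ok.2.1 (by decide) h3 h1
  obtain ⟨b, hb⟩ := covFour.exists_shift cov4_shape.1 cov4_shape.2 (by decide) h4 h1
  exact ⟨a, b, Prod.ext h1 (Prod.ext ha hb)⟩

theorem ker_le_center : sigma.ker ≤ Subgroup.center Gam := by
  intro π hπ
  refine Subgroup.mem_center_iff.2 fun g => Subtype.ext ?_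
  obtain ⟨a, b, e⟩ := ker_eq hπ
  obtain ⟨h3, h4⟩ := gam_le g.2
  rw [Subgroup.coe_mul, Subgroup.coe_mul, e]
  refine Prod.ext ?_ (Prod.ext ?_ ?_)
  · exact (mul_one _).trans (one_mul _).symm
  · exact (covThree.shift_comm h3 a).symm
  · exact (covFour.shift_comm h4 b).symm

theorem card_ker_le_twelve : Nat.card sigma.ker ≤ 12 := by
  choose a b h using fun π : sigma.ker => ker_eq π.2
  have hinj : Function.Injective fun π => (a π, b π) := fun x y e => Subtype.ext (Subtype.ext (by
    have ea : a x = a y := congrArg Prod.fst e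
    have eb : b x = b y := congrArg Prod.snd e
    rw [h x, h y, ea, eb]))
  refine (Nat.card_le_card_of_injective _ hinj).trans (le_of_eq ?_)
  rw [Nat.card_prod, Nat.card_zmod, Nat.card_zmod]
  decide

/-- The product of lifted generators along a word. -/
noncomputable def wG (w : List (Fin 2)) : Gam := (w.map gG).prod

theorem wG_eq {w : List (Fin 2)} {s t : ℕ} (hs : s < covThree.q) (ht : t < covFour.q)
    (h : allF (fun i => Nat.beq (wordImg (w.map Fin.val) i) i) 24 = true)
    (h3 : covThree.relK (w.map Fin.val) s = true) (h4 : covFour.relK (w.map Fin.val) t = true) :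
    (wG w : Big) = both s t := by
  have hval : (wG w : Big) = (w.map lgen).prod := by
    rw [wG, Subgroup.val_list_prod, List.map_map]
    rfl
  refine Prod.ext ?_ (Prod.ext ?_ ?_)
  · show (wG w : Big).1 = 1
    rw [← psi_sigma, wG, map_list_prod, List.map_map,
      show (sigma ∘ gG) = gen from funext sigma_gen, prod_eq_one h, map_one]
  · have e := covThree.prod_eq_shift lift3 Fin.val (fun m => ⟨_, (lift3_exists m).choose_spec.1, rfl⟩) hs h3
    refine Eq.trans ?_ e
    show (pr3 (wG w : Big)).2 = _
    rw [hval, map_list_prod, List.map_map]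
    rfl
  · have e := covFour.prod_eq_shift lift4 Fin.val (fun m => ⟨_, (lift4_exists m).choose_spec.1, rfl⟩) ht h4
    refine Eq.trans ?_ e
    show (pr4 (wG w : Big)).2 = _
    rw [hval, map_list_prod, List.map_map]
    rfl

/-- The central element. -/
noncomputable def zG : Gam := wG (letters zW)

theorem zG_eq : (zG : Big) = both (2 : ℕ) (1 : ℕ) := by
  obtain ⟨hl, h, h3, h4⟩ := zW_ok
  have e := letters_val hl
  exact wG_eq (by decide) (by decide) (e.symm ▸ h) (e.symm ▸ h3) (e.symm ▸ h4)

theorem zG_mem : zG ∈ sigma.ker := MonoidHom.mem_ker.2 (psi_injective (by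
  rw [psi_sigma, zG_eq, map_one]; rfl))

theorem orderOf_zG : orderOf zG = 12 := by
  rw [← Subgroup.orderOf_coe, zG_eq, orderOf_eq_iff (by norm_num)]
  refine ⟨?_, fun m hm hm0 h => ?_⟩
  · refine Prod.ext (one_pow _) (Prod.ext ?_ ?_)
    · exact (covThree.shift_pow _ _).trans ((congrArg covThree.shift (by decide)).trans covThree.shift_zero)
    · exact (covFour.shift_pow _ _).trans ((congrArg covFour.shift (by decide)).trans covFour.shift_zero)
  · have e3 : m • ((2 : ℕ) : ZMod covThree.q) = 0 := covThree.shift_inj (by decide)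
      ((covThree.shift_pow _ _).symm.trans
        ((congrArg (fun x : Big => x.2.1) h).trans covThree.shift_zero.symm))
    have e4 : m • ((1 : ℕ) : ZMod covFour.q) = 0 := covFour.shift_inj (by decide)
      ((covFour.shift_pow _ _).symm.trans
        ((congrArg (fun x : Big => x.2.2) h).trans covFour.shift_zero.symm))
    revert e3 e4
    interval_cases m <;> decide

theorem card_ker : Nat.card sigma.ker = 12 := by
  refine le_antisymm card_ker_le_twelve ?_
  have h : orderOf (⟨zG, zG_mem⟩ : sigma.ker) = 12 := by rw [Subgroup.orderOf_mk, orderOf_zG]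
  exact h ▸ orderOf_le_card

theorem isCyclic_ker : IsCyclic sigma.ker := by
  refine isCyclic_of_orderOf_eq_card ⟨zG, zG_mem⟩ ?_
  rw [card_ker, Subgroup.orderOf_mk, orderOf_zG]

theorem gG_pow (m : Fin 2) : gG m ^ ([11, 5].getD m 0) = 1 := by
  obtain ⟨a3, a4, b3, b4, a, b⟩ := rel_ok
  have key : ∀ n, gG m ^ n = wG (List.replicate n m) := fun n => by simp [wG]
  have h0 : both ((0 : ℕ) : ZMod covThree.q) ((0 : ℕ) : ZMod covFour.q) = 1 :=
    Prod.ext rfl (Prod.ext ((congrArg covThree.shift Nat.cast_zero).trans covThree.shift_zero)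
      ((congrArg covFour.shift Nat.cast_zero).trans covFour.shift_zero))
  rw [key]
  refine Subtype.ext ((wG_eq (s := 0) (t := 0) (by decide) (by decide) ?_ ?_ ?_).trans h0)
  all_goals rw [List.map_replicate]; fin_cases m
  exacts [a, b, a3, b3, a4, b4]

theorem not_comm_G : ¬ ∀ a b : G, a * b = b * a := fun h => by
  haveI := isSimple_G
  letI : CommGroup G := { (inferInstance : Group G) with mul_comm := h }
  haveI : Finite G := Subtype.finite
  have := IsSimpleGroup.prime_card (α := G)
  rw [card_G] at this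
  norm_num at this

theorem commutator_top : commutator Gam = ⊤ := by
  haveI := isSimple_G
  have hG : commutator G = ⊤ :=
    (Subgroup.Normal.eq_bot_or_eq_top (H := commutator G) inferInstance).resolve_left fun hb =>
      not_comm_G fun a b => commutatorElement_eq_one_iff_mul_comm.1
        (Subgroup.mem_bot.1 (hb ▸ Subgroup.commutator_mem_commutator (Subgroup.mem_top a) (Subgroup.mem_top b)))
  have h12 : ∀ π : Gam, π ^ 12 ∈ commutator Gam := by
    intro π
    obtain ⟨d, hd, hde⟩ : sigma π ∈ (commutator Gam).map sigma := by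
      rw [_root_.commutator_def, Subgroup.map_commutator, ← MonoidHom.range_eq_map,
        MonoidHom.range_eq_top.2 sigma_surjective, ← _root_.commutator_def, hG]
      exact Subgroup.mem_top _
    have hk : d⁻¹ * π ∈ sigma.ker := by rw [MonoidHom.mem_ker, map_mul, map_inv, hde, inv_mul_cancel]
    have hk12 : (d⁻¹ * π) ^ 12 = 1 :=
      congrArg Subtype.val (card_ker ▸ pow_card_eq_one' : (⟨_, hk⟩ : sigma.ker) ^ 12 = 1)
    have e := (show Commute d (d⁻¹ * π) from Subgroup.mem_center_iff.1 (ker_le_center hk) d).mul_pow 12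
    rw [mul_inv_cancel_left, hk12, mul_one] at e
    rw [e]
    exact Subgroup.pow_mem _ hd _
  refine eq_top_iff.2 (gG_closure ▸ (Subgroup.closure_le _).2 ?_)
  rintro _ ⟨m, rfl⟩
  fin_cases m
  · have h : gG 0 = (gG 0 ^ 12) * (gG 0 ^ 11)⁻¹ := by
      rw [eq_mul_inv_iff_mul_eq, ← pow_succ']
    show gG 0 ∈ commutator Gam
    rw [h, show gG 0 ^ 11 = 1 from gG_pow 0, inv_one, mul_one]
    exact h12 _
  · have h : gG 1 = ((gG 1 ^ 5) ^ 5) * ((gG 1 ^ 12) ^ 2)⁻¹ := by
      rw [eq_mul_inv_iff_mul_eq, ← pow_mul, ← pow_mul, ← pow_succ']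
    show gG 1 ∈ commutator Gam
    rw [h, show gG 1 ^ 5 = 1 from gG_pow 1, one_pow, one_mul]
    exact Subgroup.inv_mem _ (Subgroup.pow_mem _ (h12 _) _)

theorem isStem : Cfsg.IsStemExtension sigma :=
  ⟨sigma_surjective, ker_le_center, by rw [commutator_top]; exact le_top⟩

end CfsgLib.Schur.MTwoTwo
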