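import Cfsg.Agent.Lib.Schur.MTwoTwo.Cover
import Cfsg.Agent.Lib.Schur.MTwoTwo.Check2
import Cfsg.Agent.Lib.Schur.MTwoTwo.Check3

/-!
The multiplier of `M₂₂` is cyclic of order twelve.
-/

set_option autoImplicit false
set_option maxRecDepth 100000

namespace CfsgLib.Schur.MTwoTwo

open CfsgLib.Sporadic.OutCert

attribute [local irreducible] lk pkF allF slpTab2 slpTab3 kk2 kk3 gk2 gk3 ordK baseK

theorem hw : 24 ≤ 2 ^ 5 := by norm_num

theorem base_mem {tab : List ℕ} (h : tab.take 2 = baseK) :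
    ∀ i < 2, ∃ q : G, Rep 5 24 (tab.getD i (oneK 5 24)) (psi q) := by
  intro i hi
  refine ⟨gen ⟨i, hi⟩, ?_⟩
  have hl : i < baseK.length := by
    have e : baseK.length = 2 := by decide +kernel
    omega
  have e : tab.getD i (oneK 5 24) = (tab.take 2).getD i (oneK 5 24) := by
    simp [List.getD_eq_getElem?_getD, hi]
  rw [e, h, List.getD_eq_getElem _ _ hl, ← List.getD_eq_getElem _ 0 hl]
  exact gen_rep ⟨i, hi⟩

theorem card_ker_bound (Γ : Type) [Group Γ] [Finite Γ] (σ : Γ →* G) (hσ : Cfsg.IsStemExtension σ) :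
    Nat.card σ.ker ≤ 12 := by
  refine Tails.card_ker_le σ hσ (by norm_num) fun p hp hd => ?_
  rw [card_G] at hd
  have hp' : p = 2 ∨ p = 3 ∨ p = 5 ∨ p = 7 ∨ p = 11 := by
    have h1 : p ∣ 2 ^ 7 * 3 ^ 2 * 5 * 7 * 11 := hd
    have q : ∀ r : ℕ, r.Prime → p ∣ r → p = r := fun r hr h => (Nat.prime_dvd_prime_iff_eq hp hr).1 h
    simp only [Nat.Prime.dvd_mul hp] at h1
    rcases h1 with (((h1 | h1) | h1) | h1) | h1
    · exact Or.inl (q 2 Nat.prime_two (hp.dvd_of_dvd_pow h1))
    · exact Or.inr (Or.inl (q 3 Nat.prime_three (hp.dvd_of_dvd_pow h1)))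
    · exact Or.inr (Or.inr (Or.inl (q 5 (by norm_num) h1)))
    · exact Or.inr (Or.inr (Or.inr (Or.inl (q 7 (by norm_num) h1))))
    · exact Or.inr (Or.inr (Or.inr (Or.inr (q 11 (by norm_num) h1))))
  haveI := Fact.mk hp
  haveI : Finite G := Subtype.finite
  have hord : ∀ j < 3, ∀ m : ℕ, [5, 7, 11].getD j 0 = m → m.Prime → ¬ m ^ 2 ∣ 443520 →
      (Nat.card σ.ker).factorization m = 0 := by
    intro j hj m hm hmp hm2
    haveI := Fact.mk hmp
    obtain ⟨h1, h2, h3⟩ := ord_ok
    have h := List.all_eq_true.1 h2 j (List.mem_range.2 hj)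
    simp only [Bool.and_eq_true, Bool.not_eq_true', beq_eq_false_iff_ne, beq_iff_eq, hm] at h
    have hmem := Tails.exists_pick psi hw (Tails.exists_slp psi hw (base_mem slp3_ok.2) slp3_ok.1) h1 j
    have hdd : ordK.getD j (oneK 5 24) = ordK.getD j 0 := by
      rw [List.getD_eq_getElem _ _ (h3 ▸ hj), List.getD_eq_getElem _ _ (h3 ▸ hj)]
    rw [hdd] at hmem
    obtain ⟨q, hq⟩ := Tails.exists_orderOf psi hw psi_injective hmem h.1.1 h.1.2 h.2
    exact Tails.factorization_card_ker_of_orderOf σ hσ q (k := 1) (by rw [hq, pow_one]) (by rwa [card_G])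
  have hf : (12 : ℕ).factorization 2 = 2 ∧ (12 : ℕ).factorization 3 = 1 := by
    rw [show (12 : ℕ) = 2 ^ 2 * 3 by norm_num,
      Nat.factorization_mul (by norm_num) (by norm_num), Nat.prime_two.factorization_pow,
      Nat.prime_three.factorization]
    simp
  rcases hp' with rfl | rfl | rfl | rfl | rfl
  · obtain ⟨hs, hDp, hm, hb, hQ⟩ := cert2_shape
    have hs2 := Tails.exists_slp psi hw (base_mem slp2_ok.2) slp2_ok.1
    have := Tails.factorization_of_perm psi hw psi_injective cert2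
      (Tails.exists_pick _ hw hs2 pick2_ok.1) (Tails.exists_pick _ hw hs2 pick2_ok.2)
      cert2_eqs cert2_comb hs rels2_ok.1 rels2_ok.2 (p := 2) hDp hm all2_ok.1 all2_ok.2 inner2_ok.1 inner2_ok.2
      card_G hQ Γ σ hσ
    rw [hb, show (4 : ℕ) = 2 ^ 2 by norm_num, Nat.prime_two.factorization_pow] at this
    simpa [hf.1] using this
  · obtain ⟨hs, hDp, hm, hb, hQ⟩ := cert3_shape
    have hs3 := Tails.exists_slp psi hw (base_mem slp3_ok.2) slp3_ok.1
    have := Tails.factorization_of_perm psi hw psi_injective cert3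
      (Tails.exists_pick _ hw hs3 pick3_ok.1) (Tails.exists_pick _ hw hs3 pick3_ok.2)
      cert3_eqs cert3_comb hs rels3_ok.1 rels3_ok.2 (p := 3) hDp hm all3_ok.1 all3_ok.2 inner3_ok.1 inner3_ok.2
      card_G hQ Γ σ hσ
    rw [hb, Nat.prime_three.factorization] at this
    simpa [hf.2] using this
  · rw [hord 0 (by norm_num) 5 rfl (by norm_num) (by norm_num)]; exact Nat.zero_le _
  · rw [hord 1 (by norm_num) 7 rfl (by norm_num) (by norm_num)]; exact Nat.zero_le _
  · rw [hord 2 (by norm_num) 11 rfl (by norm_num) (by norm_num)]; exact Nat.zero_le _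

theorem hasMultiplier : Cfsg.HasCyclicSchurMultiplier G 12 := by
  haveI : Finite G := Subtype.finite
  haveI := isCyclic_ker
  exact Basic.hasSchurMultiplier_of_le _ isStem
    (mulEquivOfCyclicCardEq (by rw [card_ker]; simp [Nat.card_eq_fintype_card]))
    fun Δ _ _ τ hτ => (card_ker_bound Δ τ hτ).trans (le_of_eq (by simp [Nat.card_eq_fintype_card]))

end CfsgLib.Schur.MTwoTwo
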