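import Cfsg.Agent.Lib.Schur.MTwoTwo.Check
import Cfsg.Agent.Lib.Sporadic.MathieuOutTwo

/-!
`M₂₂` as permutations of 24 numbered points, with two generators.
-/

set_option autoImplicit false
set_option maxRecDepth 20000

namespace CfsgLib.Schur.MTwoTwo

open CfsgLib.Sporadic.OutCert CfsgLib.SmallGroups CfsgLib.SmallGroups.Golay
open CfsgLib.SmallGroups.GolayOctads

attribute [local irreducible] lk baseK baseI chainW lev0 chainL

/-- The group. -/
abbrev G : Type := ↥Cfsg.Spor.M22

/-- The numbering of the points. -/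
noncomputable def ptEquiv : Cfsg.GolayPt ≃ Fin 24 where
  toFun p := ⟨idx p, idx_lt p⟩
  invFun i := pt i
  left_inv := pt_idx
  right_inv i := Fin.ext (idx_pt i.2)

/-- The permutations of the numbered points. -/
noncomputable def psi : G →* Equiv.Perm (Fin 24) :=
  ptEquiv.permCongrHom.toMonoidHom.comp Cfsg.Spor.M22.subtype

theorem psi_injective : Function.Injective psi :=
  ptEquiv.permCongrHom.injective.comp Subtype.val_injective

theorem psi_apply (g : G) (i : Fin 24) :
    (psi g i : ℕ) = idx ((g : Equiv.Perm Cfsg.GolayPt) (pt i)) := rfl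

theorem card_G : Nat.card G = 443520 := CfsgLib.Sporadic.MathieuOutTwo.card_M22

theorem isSimple_G : IsSimpleGroup G := by
  haveI := MathieuSimple.isSimple_M22 (show (none : Cfsg.GolayPt) ≠ some 0 by simp)
  let e : ↥(MulAction.stabilizer Cfsg.M24 (none : Cfsg.GolayPt) ⊓
      MulAction.stabilizer Cfsg.M24 (some 0 : Cfsg.GolayPt)) ≃* G :=
    { toFun := fun g => ⟨g.1.1, ⟨g.1.2, g.2.1⟩, g.2.2⟩
      invFun := fun g => ⟨⟨g.1, g.2.1.1⟩, g.2.1.2, g.2.2⟩
      left_inv := fun _ => rfl
      right_inv := fun _ => rfl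
      map_mul' := fun _ _ => rfl }
  exact e.symm.isSimpleGroup

/-- A generator as a permutation of the points of the code. -/
noncomputable def gperm (m : Fin 2) : Equiv.Perm Cfsg.GolayPt where
  toFun := gfun m
  invFun := ginv m
  left_inv p := (gfun_inv m m.2 p).1
  right_inv p := (gfun_inv m m.2 p).2

/-- The generators. -/
noncomputable def gen (m : Fin 2) : G :=
  ⟨gperm m, ⟨M24Group.mem_M24_of_basis (g := gperm m) (f := gfun m) (fun _ => rfl) (gfun_code m m.2),
    MulAction.mem_stabilizer_iff.2 (gfun_fix m m.2).1⟩,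
    MulAction.mem_stabilizer_iff.2 (gfun_fix m m.2).2.1⟩

theorem gen_rep (m : Fin 2) : Rep 5 24 (baseK.getD m 0) (psi (gen m)) := by
  intro i
  rw [psi_apply]
  show lk 5 (baseK.getD m 0) i = idx (gfun m (pt i))
  rw [(gfun_fix m m.2).2.2, idx_pt i.2]

theorem wordImg_psi : ∀ (w : List (Fin 2)) (i : Fin 24),
    wordImg (w.map Fin.val) i = (psi (w.map gen).prod i : ℕ)
  | [], i => by simp [wordImg]
  | m :: w, i => by
    show lk 5 (baseK.getD m 0) (wordImg (w.map Fin.val) i) = _
    rw [wordImg_psi w i, gen_rep m, List.map_cons, List.prod_cons, map_mul, Equiv.Perm.mul_apply]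

/-- A word over the two letters. -/
def letters (w : List ℕ) : List (Fin 2) := w.map fun m => Fin.ofNat 2 m

theorem letters_val {w : List ℕ} (h : (w.all fun m => Nat.blt m 2) = true) :
    (letters w).map Fin.val = w := by
  simp only [List.all_eq_true, Nat.blt_eq] at h
  rw [letters, List.map_map]
  conv_rhs => rw [← List.map_id w]
  exact List.map_congr_left fun m hm => Nat.mod_eq_of_lt (h m hm)

theorem prod_eq_one {w : List (Fin 2)} (h : allF (fun i => Nat.beq (wordImg (w.map Fin.val) i) i) 24 = true) :
    (w.map gen).prod = 1 :=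
  psi_injective (Equiv.ext fun i => Fin.ext (by
    rw [map_one, Equiv.Perm.one_apply, ← wordImg_psi]
    exact Nat.eq_of_beq_eq_true (allF_iff.1 h i i.2)))

theorem gen_closure : Subgroup.closure (Set.range gen) = ⊤ := by
  haveI : Finite G := Subtype.finite
  set K := (Subgroup.closure (Set.range gen)).map psi with hK
  have hok := chain_ok
  have hlev : chainL = lev0 :: chainL.tail := by unfold chainL; rfl
  have hle : PermChain.grp 24 chainL ≤ K := by
    rw [PermChain.grp, Subgroup.closure_le, hlev]
    rintro _ ⟨e, he, rfl⟩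
    change e ∈ lev0.gens at he
    obtain ⟨j, hj, rfl⟩ := List.mem_iff_getElem.1 he
    obtain ⟨hlen, hall⟩ := chain_words
    have hv := List.all_eq_true.1 hall j (List.mem_range.2 (hlen ▸ hj))
    simp only [Bool.and_eq_true, allF_iff] at hv
    have hgood : PermChain.ok 24 lev0.gens[j] = true := by
      have h := hok.1
      rw [hlev] at h
      simp only [PermChain.check, Bool.and_eq_true] at h
      exact (PermChain.levelOK_iff.1 h.1).2.1 _ (List.getElem_mem hj)
    refine ⟨((letters (chainW.getD j [])).map gen).prod, ?_, ?_⟩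
    · refine Subgroup.list_prod_mem _ fun x hx => ?_
      obtain ⟨m, -, rfl⟩ := List.mem_map.1 hx
      exact Subgroup.subset_closure ⟨m, rfl⟩
    · refine Equiv.ext fun i => Fin.ext ?_
      rw [← wordImg_psi, letters_val hv.1, Nat.eq_of_beq_eq_true (hv.2 i i.2),
        List.getD_eq_getElem _ _ hj]
      exact PermChain.rep_fst hgood i
  refine Subgroup.eq_top_of_le_card _ ?_
  have h1 := Nat.card_le_card_of_injective _ (Subgroup.inclusion_injective hle)
  rw [PermChain.card_grp hok.1, hok.2] at h1
  rw [card_G, ← Subgroup.card_map_of_injective (K := Subgroup.closure (Set.range gen)) psi_injective]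
  exact h1

end CfsgLib.Schur.MTwoTwo
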